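import Groth.Agent.Lib.OX.ExtZeroOpen
import Groth.Agent.Lib.OX.ProjLocal
import Groth.Agent.Lib.OX.StalkTensor
import Groth.Agent.Lib.ModSupp25.Derived
import Groth.Agent.Lib.LocZ.Excision
import Groth.Prelude.Def_CxOX
import Groth.Prelude.Def_ModSite

/-! # Internal Hom and local Ext commute with restriction to an open -/

set_option autoImplicit false
set_option maxHeartbeats 400000
set_option linter.style.haveILetI false
set_option backward.isDefEq.respectTransparency false

universe u

open CategoryTheory CategoryTheory.Limits AlgebraicGeometry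

namespace GrothLib.HomRestrict20

open OX

variable {U X : Scheme.{u}} (j : U ⟶ X) [IsOpenImmersion j]

/-- Restriction commutes with the tensor product. -/
noncomputable def resTensorIso (P F : X.Modules) :
    (Scheme.Modules.restrictFunctor j).obj (((DCoh.tensorBi (X := X)).obj P).obj F) ≅
      ((DCoh.tensorBi (X := U)).obj ((Scheme.Modules.restrictFunctor j).obj P)).obj
        ((Scheme.Modules.restrictFunctor j).obj F) :=
  (Scheme.Modules.restrictFunctorIsoPullback j).app _ ≪≫ pullTensorIso j P F ≪≫
    ((DCoh.tensorBi (X := U)).mapIso ((Scheme.Modules.restrictFunctorIsoPullback j).app P).symm).app _ ≪≫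
    ((DCoh.tensorBi (X := U)).obj _).mapIso ((Scheme.Modules.restrictFunctorIsoPullback j).app F).symm

theorem resTensorIso_natural {P P' : X.Modules} (a : P ⟶ P') (F : X.Modules) :
    (Scheme.Modules.restrictFunctor j).map (((DCoh.tensorBi (X := X)).map a).app F) ≫ (resTensorIso j P' F).hom =
      (resTensorIso j P F).hom ≫ ((DCoh.tensorBi (X := U)).map ((Scheme.Modules.restrictFunctor j).map a)).app
        ((Scheme.Modules.restrictFunctor j).obj F) := by
  simp only [resTensorIso, Iso.trans_hom, Iso.app_hom, Functor.mapIso_hom, Iso.symm_hom, Iso.app_inv,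
    Category.assoc]
  rw [← Category.assoc, (Scheme.Modules.restrictFunctorIsoPullback j).hom.naturality, Category.assoc,
    reassoc_of% (pullTensorIso_natural₁ j a F)]
  congr 2
  rw [← NatTrans.comp_app_assoc, ← Functor.map_comp, (Scheme.Modules.restrictFunctorIsoPullback j).inv.naturality,
    Functor.map_comp, NatTrans.comp_app_assoc]
  congr 1
  exact (((DCoh.tensorBi (X := U)).map ((Scheme.Modules.restrictFunctor j).map a)).naturality _).symm

/-- The projection map `j_!(P ⊗ F|_U) ⟶ j_!P ⊗ F`, naturally in `P`. -/
noncomputable def projNat (F : X.Modules) :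
    (DCoh.tensorBi (X := U)).flip.obj ((Scheme.Modules.restrictFunctor j).obj F) ⋙ CxOX.extZero j ⟶
      CxOX.extZero j ⋙ (DCoh.tensorBi (X := X)).flip.obj F where
  app P := ((CxOX.extZeroAdj j).homEquiv _ _).symm
    (((DCoh.tensorBi (X := U)).map ((CxOX.extZeroAdj j).unit.app P)).app _ ≫
      (resTensorIso j ((CxOX.extZero j).obj P) F).inv)
  naturality P P' a := by
    simp only [Functor.comp_map, Functor.flip_obj_map]
    rw [← Adjunction.homEquiv_naturality_left_symm, ← Adjunction.homEquiv_naturality_right_symm, Category.assoc]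
    refine congrArg _ ?_
    rw [← NatTrans.comp_app_assoc, ← Functor.map_comp,
      show a ≫ (CxOX.extZeroAdj j).unit.app P' = (CxOX.extZeroAdj j).unit.app P ≫
        (Scheme.Modules.restrictFunctor j).map ((CxOX.extZero j).map a) from (CxOX.extZeroAdj j).unit.naturality a,
      Functor.map_comp, NatTrans.comp_app_assoc]
    congr 1
    rw [Iso.comp_inv_eq, Category.assoc, resTensorIso_natural, Iso.inv_hom_id_assoc]

theorem isIso_restrict_projNat (F : X.Modules) (P : U.Modules) :
    IsIso ((Scheme.Modules.restrictFunctor j).map ((projNat j F).app P)) := by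
  have : IsIso ((CxOX.extZeroAdj j).unit.app
      (((DCoh.tensorBi (X := U)).obj P).obj ((Scheme.Modules.restrictFunctor j).obj F))) := inferInstance
  have h := (CxOX.extZeroAdj j).homEquiv_unit _ _ ((projNat j F).app P)
  have e : (CxOX.extZeroAdj j).homEquiv _ _ ((projNat j F).app P) =
      ((DCoh.tensorBi (X := U)).map ((CxOX.extZeroAdj j).unit.app P)).app _ ≫
        (resTensorIso j ((CxOX.extZero j).obj P) F).inv := Equiv.apply_symm_apply _ _
  exact IsIso.of_isIso_fac_left (h.symm.trans e)

theorem isIso_projNat (F : X.Modules) : IsIso (projNat j F) := by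
  have : ∀ P, IsIso ((projNat j F).app P) := fun P => by
    refine (OX.isIso_iff _).2 fun x => ?_
    by_cases hx : x ∈ Set.range j
    · obtain ⟨y, rfl⟩ := hx
      have := isIso_restrict_projNat j F P
      have := mono_stalk_map_of_restrict j ((projNat j F).app P) y inferInstance
      have := epi_stalk_map_of_restrict j ((projNat j F).app P) y inferInstance
      exact isIso_of_mono_of_epi _
    · have h1 := isZero_stalk_extZero j (((DCoh.tensorBi (X := U)).obj P).obj
        ((Scheme.Modules.restrictFunctor j).obj F)) x hx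
      have h2 : IsZero ((stalk x).obj (((DCoh.tensorBi (X := X)).obj ((CxOX.extZero j).obj P)).obj F)) :=
        IsZero.of_iso ((MonoidalCategory.tensorRight ((stalk x).obj F)).map_isZero
          (isZero_stalk_extZero j P x hx)) (stalkTensorBiIso x _ F)
      exact ⟨0, h1.eq_of_src _ _, h2.eq_of_src _ _⟩
  exact NatIso.isIso_of_isIso_app _

/-- `Hom(F, G)|_U ≅ Hom(F|_U, G|_U)`. -/
noncomputable def sheafHomRestrictIso (F : X.Modules) [ModSite.HasSheafHom (O := X.sheaf) F]
    [ModSite.HasSheafHom (O := U.sheaf) ((Scheme.Modules.restrictFunctor j).obj F)] :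
    ModSite.sheafHom (O := X.sheaf) F ⋙ Scheme.Modules.restrictFunctor j ≅
      Scheme.Modules.restrictFunctor j ⋙
        ModSite.sheafHom (O := U.sheaf) ((Scheme.Modules.restrictFunctor j).obj F) :=
  ((CxOX.extZeroAdj j).comp (ModSite.sheafHomAdj (O := X.sheaf) F)).rightAdjointUniq
    (((ModSite.sheafHomAdj (O := U.sheaf) ((Scheme.Modules.restrictFunctor j).obj F)).comp
      (CxOX.extZeroAdj j)).ofNatIsoLeft (@asIso _ _ _ _ (projNat j F) (isIso_projNat j F)))

theorem additive_sheafHom {Z : Scheme.{u}} (M : Z.Modules) [ModSite.HasSheafHom (O := Z.sheaf) M] :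
    (ModSite.sheafHom (O := Z.sheaf) M).Additive :=
  have : PreservesLimitsOfSize.{0, 0} (ModSite.sheafHom (O := Z.sheaf) M) :=
    (ModSite.sheafHomAdj (O := Z.sheaf) M).rightAdjoint_preservesLimits
  Functor.additive_of_preserves_binary_products _

theorem additive_restrictFunctor : (Scheme.Modules.restrictFunctor j).Additive :=
  have : PreservesLimitsOfSize.{0, 0} (Scheme.Modules.restrictFunctor j) :=
    (CxOX.extZeroAdj j).rightAdjoint_preservesLimits
  Functor.additive_of_preserves_binary_products _

theorem injective_restrictFunctor (I : X.Modules) (hI : Injective I) :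
    Injective ((Scheme.Modules.restrictFunctor j).obj I) :=
  Injective.injective_of_adjoint (CxOX.extZeroAdj j) I

/-- `ℰxt^q(F, G)|_U ≅ ℰxt^q(F|_U, G|_U)`. -/
noncomputable def extShRestrictIso (F : X.Modules) [ModSite.HasSheafHom (O := X.sheaf) F]
    [HasInjectiveResolutions (ModSite.Mod X.sheaf)]
    [ModSite.HasSheafHom (O := U.sheaf) ((Scheme.Modules.restrictFunctor j).obj F)]
    [HasInjectiveResolutions (ModSite.Mod U.sheaf)] (q : ℕ) :
    ModSite.extSh (O := X.sheaf) F q ⋙ Scheme.Modules.restrictFunctor j ≅
      Scheme.Modules.restrictFunctor j ⋙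
        ModSite.extSh (O := U.sheaf) ((Scheme.Modules.restrictFunctor j).obj F) q :=
  haveI := additive_restrictFunctor j
  haveI := additive_sheafHom F
  haveI := additive_sheafHom ((Scheme.Modules.restrictFunctor j).obj F)
  haveI : (ModSite.sheafHom (O := X.sheaf) F ⋙ Scheme.Modules.restrictFunctor j).Additive :=
    @Functor.instAdditiveComp _ _ _ _ _ _ _ _ _ _ _ _ _
  haveI : (Scheme.Modules.restrictFunctor j).PreservesHomology := Functor.preservesHomologyOfExact _
  ModSupp25.rightDerivedPostIso (ModSite.sheafHom (O := X.sheaf) F) (Scheme.Modules.restrictFunctor j) q ≪≫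
    SheafCoh.rightDerivedCongr (sheafHomRestrictIso j F) q ≪≫
    (LocZ.rightDerivedPreExactIso (Scheme.Modules.restrictFunctor j)
      (fun I hI => injective_restrictFunctor j I hI)
      (ModSite.sheafHom (O := U.sheaf) ((Scheme.Modules.restrictFunctor j).obj F)) q).symm

end GrothLib.HomRestrict20
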